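import Groth.Agent.Lib.LimH13.SuppProper
import Mathlib.AlgebraicGeometry.Morphisms.SchemeTheoreticallyDominant

/-!
# Closed subsets proper over a base
-/

universe u

open CategoryTheory CategoryTheory.Limits AlgebraicGeometry

namespace Groth.Agent.ClSub24

variable {X Y S : Scheme.{u}}

/-- Properness can be tested on a finite jointly surjective family of universally closed maps. -/
theorem isProper_of_jointly {κ : Type*} [Finite κ] {W : κ → Scheme.{u}} (s : ∀ k, W k ⟶ X)
    [∀ k, UniversallyClosed (s k)] (hs : (⋃ k, Set.range (s k)) = Set.univ) (q : X ⟶ S)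
    [LocallyOfFiniteType q] (h : ∀ k, IsProper (s k ≫ q)) : IsProper q := by
  haveI : UniversallyClosed q := by
    refine ⟨fun A T i₁ i₂ π sq C hC => ?_⟩
    have e : π '' C = ⋃ k, (pullback.snd (s k) i₁ ≫ π) '' (pullback.snd (s k) i₁ ⁻¹' C) := by
      ext t
      constructor
      · rintro ⟨a, ha, rfl⟩
        obtain ⟨k, y, hy⟩ := Set.mem_iUnion.1 (hs.ge (Set.mem_univ (i₁ a)))
        obtain ⟨z, -, hz⟩ := Scheme.Pullback.exists_preimage_pullback (f := s k) (g := i₁) y a hy
        exact Set.mem_iUnion.2 ⟨k, z, by show pullback.snd (s k) i₁ z ∈ C; rwa [hz], by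
          rw [Scheme.Hom.comp_apply, hz]⟩
      · intro ht
        obtain ⟨k, z, hz, rfl⟩ := Set.mem_iUnion.1 ht
        exact ⟨_, hz, (Scheme.Hom.comp_apply _ _ _).symm⟩
    rw [e]
    refine isClosed_iUnion_of_finite fun k => ?_
    haveI := h k
    have sq' : IsPullback (pullback.fst (s k) i₁) (pullback.snd (s k) i₁ ≫ π) (s k ≫ q) i₂ :=
      (IsPullback.of_hasPullback (s k) i₁).paste_vert sq.flip
    haveI : UniversallyClosed (pullback.snd (s k) i₁ ≫ π) :=
      MorphismProperty.of_isPullback (P := @UniversallyClosed) sq' inferInstance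
    exact (pullback.snd (s k) i₁ ≫ π).isClosedMap _ (hC.preimage (pullback.snd (s k) i₁).continuous)
  haveI : IsSeparated q := by
    refine ⟨IsClosedImmersion.of_isPreimmersion _ ?_⟩
    let m : ∀ k, pullback (s k ≫ q) (s k ≫ q) ⟶ pullback q q := fun k =>
      pullback.map (s k ≫ q) (s k ≫ q) q q (s k) (s k) (𝟙 _) (by simp) (by simp)
    have hm : ∀ k, pullback.diagonal (s k ≫ q) ≫ m k = s k ≫ pullback.diagonal q := fun k => by
      apply pullback.hom_ext <;> simp [m, pullback.lift_fst, pullback.lift_snd]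
    have e : Set.range (pullback.diagonal q) =
        ⋃ k, Set.range (pullback.diagonal (s k ≫ q) ≫ m k) := by
      ext y
      constructor
      · rintro ⟨w, rfl⟩
        obtain ⟨k, a, rfl⟩ := Set.mem_iUnion.1 (hs.ge (Set.mem_univ w))
        exact Set.mem_iUnion.2 ⟨k, a, by rw [hm, Scheme.Hom.comp_apply]⟩
      · intro hy
        obtain ⟨k, a, rfl⟩ := Set.mem_iUnion.1 hy
        exact ⟨s k a, by rw [hm, Scheme.Hom.comp_apply]⟩
    rw [e]
    refine isClosed_iUnion_of_finite fun k => ?_
    haveI := h k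
    haveI : UniversallyClosed (m k) := by
      haveI : MorphismProperty.IsStableUnderComposition (@UniversallyClosed : MorphismProperty Scheme.{u}) :=
        inferInstance
      exact MorphismProperty.pullbackMap (P := @UniversallyClosed) inferInstance inferInstance rfl rfl
    exact (pullback.diagonal (s k ≫ q) ≫ m k).isClosedMap.isClosed_range
  exact ⟨⟩

theorem isProperOver_iff_exists (f : X ⟶ S) [LocallyOfFiniteType f] (Z : Set X) :
    ClSub.IsProperOver f Z ↔ ∃ (T : Scheme.{u}) (i : T ⟶ X), IsClosedImmersion i ∧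
        Set.range ⇑i = Z ∧ IsProper (i ≫ f) := by
  constructor
  · rintro ⟨hZ, hp⟩
    refine ⟨_, _, inferInstanceAs (IsClosedImmersion (Scheme.IdealSheafData.subschemeι _)), ?_, hp⟩
    rw [Scheme.IdealSheafData.range_subschemeι, Scheme.IdealSheafData.coe_support_vanishingIdeal]
    rfl
  · rintro ⟨T, i, hi, hr, hp⟩
    exact LimH13.isProperOver_of_isProper f i hr

theorem isProperOver_image (p : X ⟶ S) (q : Y ⟶ S) [LocallyOfFiniteType p] [LocallyOfFiniteType q]
    (f : X ⟶ Y) (w : f ≫ q = p) (hf : IsSeparated q ∨ UniversallyClosed f)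
    {Z : Set X} (hZ : ClSub.IsProperOver p Z) : ClSub.IsProperOver q (⇑f '' Z) := by
  obtain ⟨T, i, hi, hr, hp⟩ := (isProperOver_iff_exists p Z).1 hZ
  haveI := hi
  haveI : IsProper ((i ≫ f) ≫ q) := by rwa [Category.assoc, w]
  haveI : UniversallyClosed (i ≫ f) := by
    rcases hf with h | h
    · haveI := h; exact UniversallyClosed.of_comp_of_isSeparated (i ≫ f) q
    · haveI := h; infer_instance
  have hrange : Set.range (i ≫ f).imageι = f '' Z := by
    rw [Scheme.IdealSheafData.range_subschemeι, Scheme.Hom.support_ker,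
      (i ≫ f).isClosedMap.isClosed_range.closure_eq, ← hr,
      ← Set.range_comp]
    rfl
  haveI : UniversallyClosed (i ≫ f).toImage := by
    haveI : UniversallyClosed ((i ≫ f).toImage ≫ (i ≫ f).imageι) := by
      rw [Scheme.Hom.toImage_imageι]; infer_instance
    exact UniversallyClosed.of_comp_of_isSeparated (i ≫ f).toImage (i ≫ f).imageι
  have hsurj : (⋃ _ : Unit, Set.range (i ≫ f).toImage) = Set.univ := by
    refine Set.eq_univ_of_forall fun z => Set.mem_iUnion.2 ⟨(), ?_⟩
    obtain ⟨x, hxZ, hx⟩ := hrange.le ⟨z, rfl⟩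
    obtain ⟨t, rfl⟩ := hr.ge hxZ
    refine ⟨t, (i ≫ f).imageι.isEmbedding.injective ?_⟩
    rw [← Scheme.Hom.comp_apply, Scheme.Hom.toImage_imageι, Scheme.Hom.comp_apply, hx]
  haveI := isProper_of_jointly (fun _ : Unit => (i ≫ f).toImage) hsurj ((i ≫ f).imageι ≫ q)
    (fun _ => by rw [← Category.assoc, Scheme.Hom.toImage_imageι]; infer_instance)
  exact LimH13.isProperOver_of_isProper q (i ≫ f).imageι hrange

theorem isProperOver_preimage (p : X ⟶ S) (q : Y ⟶ S) [LocallyOfFiniteType p] [LocallyOfFiniteType q]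
    (f : X ⟶ Y) [IsProper f] (w : f ≫ q = p) {Z : Set Y} (hZ : ClSub.IsProperOver q Z) :
    ClSub.IsProperOver p (⇑f ⁻¹' Z) := by
  obtain ⟨T, i, hi, hr, hp⟩ := (isProperOver_iff_exists q Z).1 hZ
  haveI := hi
  haveI := hp
  haveI : IsProper (pullback.fst f i ≫ p) := by
    rw [← w, pullback.condition_assoc]
    haveI : IsProper (pullback.snd f i) := MorphismProperty.pullback_snd (P := @IsProper) f i ‹_›
    infer_instance
  exact LimH13.isProperOver_of_isProper p (pullback.fst f i) (by rw [Scheme.Pullback.range_fst, hr])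

theorem isProperOver_preimage_of_isPullback {X' S' : Scheme.{u}} (f : X ⟶ S) [LocallyOfFiniteType f]
    {g : S' ⟶ S} {g' : X' ⟶ X} {f' : X' ⟶ S'} (sq : IsPullback g' f' f g) {Z : Set X}
    (hZ : ClSub.IsProperOver f Z) : ClSub.IsProperOver f' (⇑g' ⁻¹' Z) := by
  haveI : LocallyOfFiniteType f' :=
    MorphismProperty.of_isPullback (P := @LocallyOfFiniteType) sq ‹_›
  obtain ⟨T, i, hi, hr, hp⟩ := (isProperOver_iff_exists f Z).1 hZ
  haveI := hi
  haveI := hp
  have sq' : IsPullback (pullback.snd g' i) (pullback.fst g' i ≫ f') (i ≫ f) g :=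
    (IsPullback.of_hasPullback g' i).flip.paste_vert sq
  haveI : IsProper (pullback.fst g' i ≫ f') := MorphismProperty.of_isPullback (P := @IsProper) sq' hp
  exact LimH13.isProperOver_of_isProper f' (pullback.fst g' i) (by rw [Scheme.Pullback.range_fst, hr])

theorem isProperOver_subset (f : X ⟶ S) [LocallyOfFiniteType f] {Z Z' : Set X} (h : Z' ⊆ Z)
    (hc : IsClosed Z') (hZ : ClSub.IsProperOver f Z) : ClSub.IsProperOver f Z' := by
  obtain ⟨hZc, hp⟩ := hZ
  refine ⟨hc, ?_⟩
  let I := Scheme.IdealSheafData.vanishingIdeal (⟨Z, hZc⟩ : TopologicalSpace.Closeds X)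
  let I' := Scheme.IdealSheafData.vanishingIdeal (⟨Z', hc⟩ : TopologicalSpace.Closeds X)
  have hker : I.subschemeι.ker ≤ I'.subschemeι.ker := by
    rw [Scheme.IdealSheafData.ker_subschemeι, Scheme.IdealSheafData.ker_subschemeι]
    exact Scheme.IdealSheafData.vanishingIdeal_antimono h
  let s := IsClosedImmersion.lift I.subschemeι I'.subschemeι hker
  haveI : IsClosedImmersion (s ≫ I.subschemeι) := by rw [IsClosedImmersion.lift_fac]; infer_instance
  haveI : IsClosedImmersion s := IsClosedImmersion.of_comp s I.subschemeι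
  haveI : IsProper (I.subschemeι ≫ f) := hp
  change IsProper (I'.subschemeι ≫ f)
  rw [← IsClosedImmersion.lift_fac I.subschemeι I'.subschemeι hker, Category.assoc]
  infer_instance

theorem isProperOver_iUnion (f : X ⟶ S) [LocallyOfFiniteType f] {ι : Type*} [Finite ι]
    (Z : ι → Set X) (hZ : ∀ i, ClSub.IsProperOver f (Z i)) : ClSub.IsProperOver f (Set.iUnion Z) := by
  have hc : IsClosed (Set.iUnion Z) := isClosed_iUnion_of_finite fun i => (hZ i).1
  refine ⟨hc, ?_⟩
  let I := Scheme.IdealSheafData.vanishingIdeal (⟨_, hc⟩ : TopologicalSpace.Closeds X)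
  let J := fun i => Scheme.IdealSheafData.vanishingIdeal (⟨Z i, (hZ i).1⟩ : TopologicalSpace.Closeds X)
  have hker : ∀ i, I.subschemeι.ker ≤ (J i).subschemeι.ker := fun i => by
    rw [Scheme.IdealSheafData.ker_subschemeι, Scheme.IdealSheafData.ker_subschemeι]
    exact Scheme.IdealSheafData.vanishingIdeal_antimono (Set.subset_iUnion Z i)
  let s := fun i => IsClosedImmersion.lift I.subschemeι (J i).subschemeι (hker i)
  have hfac : ∀ i, s i ≫ I.subschemeι = (J i).subschemeι := fun i => IsClosedImmersion.lift_fac _ _ _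
  haveI : ∀ i, IsClosedImmersion (s i) := fun i => by
    haveI : IsClosedImmersion (s i ≫ I.subschemeι) := by rw [hfac]; infer_instance
    exact IsClosedImmersion.of_comp (s i) I.subschemeι
  refine isProper_of_jointly s ?_ (I.subschemeι ≫ f) fun i => by
    rw [← Category.assoc, hfac]
    exact (hZ i).2
  refine Set.eq_univ_of_forall fun z => ?_
  have hz : I.subschemeι z ∈ Set.iUnion Z := by
    have : I.subschemeι z ∈ Set.range I.subschemeι := ⟨z, rfl⟩
    rwa [Scheme.IdealSheafData.range_subschemeι, Scheme.IdealSheafData.coe_support_vanishingIdeal] at this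
  obtain ⟨i, hi⟩ := Set.mem_iUnion.1 hz
  obtain ⟨a, ha⟩ : I.subschemeι z ∈ Set.range (J i).subschemeι := by
    rw [Scheme.IdealSheafData.range_subschemeι, Scheme.IdealSheafData.coe_support_vanishingIdeal]
    exact hi
  refine Set.mem_iUnion.2 ⟨i, a, I.subschemeι.isEmbedding.injective ?_⟩
  rw [← Scheme.Hom.comp_apply, hfac, ha]

end Groth.Agent.ClSub24
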